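import Cfsg.Agent.H916.RG.Use
import Cfsg.Agent.H916.RG.D11
import Cfsg.Agent.MTwelveType.SylowModel
import Cfsg.Agent.S0387
import Cfsg.Agent.S2060

/-!
# S3509: `M11` (helper916)
-/

set_option autoImplicit false

namespace Cfsg.Agent.H916.RG

open Cfsg Cfsg.Agent.H106.RC Cfsg.Agent.H334.Ore.Mat Cfsg.Agent.H916.RG.Eng
open scoped Pointwise
open Cfsg.Agent.SporadicStructure.M24El Cfsg.Agent.H729.Trans
open Cfsg.Agent.SporadicA.GolayPerm Cfsg.Agent.SporadicA.GolayBase
open Cfsg.Agent.SporadicStructure.M11InvPerms (dd dd_mem)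
open Cfsg.Agent.MTwelveType.SylowModel (squareDodecad_eq mem_M12)

/-! ### the dodecad -/

/-- the dodecad, as a mask -/
def ddM : ℕ := 340831

theorem mem_dd_mask : ∀ p : GolayPt, p ∈ dd ↔ ddM.testBit (idx p) = true := by decide +kernel

theorem m12_dd {g : Equiv.Perm GolayPt} (hg : g ∈ Spor.M12) (p : GolayPt) : g p ∈ dd ↔ p ∈ dd := by
  have h1 : g • Spor.squareDodecad = Spor.squareDodecad := hg.2
  rw [squareDodecad_eq] at h1
  constructor
  · intro h
    rw [← h1, Finset.mem_smul_finset] at h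
    obtain ⟨q, hq, hqp⟩ := h
    rwa [← g.injective hqp]
  · intro h
    rw [← h1]
    exact Finset.mem_smul_finset.2 ⟨p, h, rfl⟩

/-- tables preserving the dodecad -/
def P12 (c : ℕ) : Bool := ok c && (List.range 24).all fun i => !(ddM.testBit i) || ddM.testBit (papp c i)

theorem P12_mem {c : ℕ} (h : P12 c = true) : ok c = true ∧ (el c : Equiv.Perm GolayPt) ∈ Spor.M12 := by
  unfold P12 at h
  rw [Bool.and_eq_true] at h
  refine ⟨h.1, mem_M12 (el c).2 fun p hp => ?_⟩
  rw [mem_dd_mask] at hp ⊢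
  have h1 := List.all_eq_true.1 h.2 (idx p) (List.mem_range.2 (idx_lt p))
  have h2 : idx ((el c : Equiv.Perm GolayPt) p) = papp c (idx p) := idx_el_smul h.1 p
  rw [hp, Bool.not_true, Bool.false_or] at h1
  rw [h2]
  exact h1

/-- the points of the dodecad and the other points -/
def ddL : List ℕ := [0, 1, 2, 3, 4, 6, 8, 9, 12, 13, 16, 18]

/-- the other points -/
def dcL : List ℕ := [5, 7, 10, 11, 14, 15, 17, 19, 20, 21, 22, 23]

theorem mem_ddL : ∀ p : GolayPt, p ∈ dd → idx p ∈ ddL := by decide +kernel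

theorem mem_dcL : ∀ p : GolayPt, p ∉ dd → idx p ∈ dcL := by decide +kernel

theorem dd_of_mem : ∀ p : GolayPt, idx p ∈ ddL → p ∈ dd := by decide +kernel

theorem im_idx (g : M24) (p : GolayPt) : im g (idx p) = idx ((g : Equiv.Perm GolayPt) p) := by
  unfold im
  rw [pt_idx]

namespace R11

theorem M11_le : Spor.M11 ≤ M24 := fun _ h => h.1.1

/-- the inclusion -/
def ψ : Spor.M11 →* M24 where
  toFun g := ⟨(g : Equiv.Perm GolayPt), g.2.1.1⟩
  map_one' := rfl
  map_mul' _ _ := rfl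

theorem ψ_inj : Function.Injective ψ := by
  intro a b h
  exact Subtype.ext (congrArg (fun g : M24 => (g : Equiv.Perm GolayPt)) h)

/-- tables of elements of `M11` -/
def P (c : ℕ) : Bool := P12 c && Nat.beq (papp c 0) 0

theorem hP (c : ℕ) (h : P c = true) : ok c = true ∧ ∃ s : Spor.M11, ψ s = el c := by
  unfold P at h
  rw [Bool.and_eq_true] at h
  obtain ⟨h1, h2⟩ := P12_mem h.1
  refine ⟨h1, ⟨(el c : Equiv.Perm GolayPt), h2, ?_⟩, rfl⟩
  have h3 := el_smul_pt h1 (some 0 : GolayPt)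
  have e : idx (some 0 : GolayPt) = 0 := rfl
  rw [e, Nat.eq_of_beq_eq_true h.2] at h3
  exact h3

theorem zero_mem : (some 0 : GolayPt) ∈ dd := by decide +kernel

theorem card_M11 : Nat.card Spor.M11 = 7920 := by
  rw [← Cfsg.Agent.S0387.result _ dd_mem _ zero_mem]
  refine Nat.card_congr ⟨fun g => ⟨⟨g, g.2.1.1⟩, Subgroup.mem_inf.2 ⟨?_, g.2.2⟩⟩,
    fun g => ⟨((g : M24) : Equiv.Perm GolayPt), ⟨⟨(g : M24).2, ?_⟩, (Subgroup.mem_inf.1 g.2).2⟩⟩, fun _ => rfl, fun _ => rfl⟩
  · have h : (g : Equiv.Perm GolayPt) • Spor.squareDodecad = Spor.squareDodecad := g.2.1.2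
    rw [squareDodecad_eq] at h
    exact h
  · show ((g : M24) : Equiv.Perm GolayPt) • Spor.squareDodecad = Spor.squareDodecad
    rw [squareDodecad_eq]
    exact (Subgroup.mem_inf.1 g.2).1

/-- candidates -/
def cand (b : ℕ) : List ℕ :=
  if b = 0 then [0] else if b ∈ ddL then [1, 2, 3, 4, 6, 8, 9, 12, 13, 16, 18] else dcL

/-- no restriction -/
def Q (_ : ℕ) : Bool := true

theorem im_cand (g : Spor.M11) {i : ℕ} (hi : i < 24) : im (ψ g) i ∈ cand i := by
  have hg0 : (g : Equiv.Perm GolayPt) (some 0) = some 0 := g.2.2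
  unfold cand
  by_cases h0 : i = 0
  · rw [if_pos h0, h0]
    have h1 := im_idx (ψ g) (some 0)
    have e : idx (some 0 : GolayPt) = 0 := rfl
    have h2 : ((ψ g : M24) : Equiv.Perm GolayPt) (some 0) = some 0 := hg0
    rw [h2, e] at h1
    rw [h1]
    exact List.mem_singleton.2 rfl
  · rw [if_neg h0]
    have hne : im (ψ g) i ≠ 0 := by
      intro h
      apply h0
      apply im_inj (ψ g) hi (by norm_num)
      rw [h]
      have h1 := im_idx (ψ g) (some 0)
      have e : idx (some 0 : GolayPt) = 0 := rfl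
      have h2 : ((ψ g : M24) : Equiv.Perm GolayPt) (some 0) = some 0 := hg0
      rw [h2, e] at h1
      rw [h1]
    have hidx : idx (pt i) = i := idx_pt hi
    by_cases hd : i ∈ ddL
    · rw [if_pos hd]
      have h1 : pt i ∈ dd := dd_of_mem _ (by rw [hidx]; exact hd)
      have h2 : im (ψ g) i ∈ ddL := mem_ddL _ ((m12_dd g.2.1 (pt i)).2 h1)
      unfold ddL at h2
      rcases List.mem_cons.1 h2 with h3 | h3
      · exact absurd h3 hne
      · exact h3
    · rw [if_neg hd]
      have h1 : pt i ∉ dd := fun h => hd (by have := mem_ddL _ h; rwa [hidx] at this)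
      exact mem_dcL _ fun h => h1 ((m12_dd g.2.1 (pt i)).1 h)

theorem hO : (D11.O.all (chkO P Q cand D11.T)) = true := by decide +kernel

theorem s3 : sylOk P D11.L3 = true := by decide +kernel

theorem s5 : sylOk P D11.L5 = true := by decide +kernel

theorem s11 : sylOk P D11.L11 = true := by decide +kernel

theorem w3 : covOk P D11.O D11.L3 D11.W3 = true := by decide +kernel

theorem w5 : covOk P D11.O D11.L5 D11.W5 = true := by decide +kernel

theorem w11 : covOk P D11.O D11.L11 D11.W11 = true := by decide +kernel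

theorem hcov [Finite Spor.M11] (s : Spor.M11) (p : ℕ) (hp : p.Prime) (hp2 : p ≠ 2) (hs : orderOf s = p) :
    ∃ o ∈ D11.O, ∃ (t : Spor.M11) (k : ℕ), ψ (t * s ^ k * t⁻¹) = el o.c := by
  have h1 : p ∣ 2 ^ 4 * 3 ^ 2 * 5 * 11 := by
    have h2 : p ∣ Nat.card Spor.M11 := hs ▸ orderOf_dvd_natCard s
    rwa [card_M11] at h2
  have h2 : p = 3 ∨ p = 5 ∨ p = 11 := by
    rcases (Nat.Prime.dvd_mul hp).1 h1 with h | h
    · rcases (Nat.Prime.dvd_mul hp).1 h with h | h
      · rcases (Nat.Prime.dvd_mul hp).1 h with h | h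
        · exact absurd ((Nat.prime_dvd_prime_iff_eq hp Nat.prime_two).1 (hp.dvd_of_dvd_pow h)) hp2
        · exact Or.inl ((Nat.prime_dvd_prime_iff_eq hp Nat.prime_three).1 (hp.dvd_of_dvd_pow h))
      · exact Or.inr (Or.inl ((Nat.prime_dvd_prime_iff_eq hp (by norm_num)).1 h))
    · exact Or.inr (Or.inr ((Nat.prime_dvd_prime_iff_eq hp (by norm_num)).1 h))
  rcases h2 with rfl | rfl | rfl
  · exact cov_of_sylow ψ_inj hP hp s3 (a := 2) (m := 880) (by decide) (by rw [card_M11]; norm_num) (by norm_num) w3 s hs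
  · exact cov_of_sylow ψ_inj hP hp s5 (a := 1) (m := 1584) (by decide) (by rw [card_M11]; norm_num) (by norm_num) w5 s hs
  · exact cov_of_sylow ψ_inj hP hp s11 (a := 1) (m := 720) (by decide) (by rw [card_M11]; norm_num) (by norm_num) w11 s hs

theorem hcen (τ : M24) (h : ∀ g : Spor.M11, (τ : Equiv.Perm GolayPt) * g = g * τ) : τ = 1 := by
  have hc : P D11.cen.c = true := by decide +kernel
  have hd : P D11.cd = true := by decide +kernel
  obtain ⟨hc1, s, hs⟩ := hP _ hc
  obtain ⟨hd1, t, ht⟩ := hP _ hd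
  refine cen_of_search (p := 11) (c := D11.cen.c) (wd := D11.cen.wd) (sts := D11.cen.sts) (d := D11.cd)
    (by decide +kernel) hd1 (by decide +kernel) (by decide +kernel) τ ?_ ?_
  · rw [← hs]; exact Subtype.ext (h s)
  · rw [← ht]; exact Subtype.ext (h t)

theorem rc (hs : IsSimpleGroup Spor.M11) (hc : ¬ IsMulCommutative Spor.M11) : RC Spor.M11 := by
  have hfin : Finite Spor.M11 := Nat.finite_of_card_ne_zero (by rw [card_M11]; norm_num)
  obtain ⟨φ, hφ, hφc, -⟩ := exists_emb Spor.M11 M11_le (fun α => by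
    obtain ⟨s, hs⟩ := inner_of_out S2060.result α
    exact ⟨⟨s, M11_le s.2⟩, fun g => by rw [← hs]; rfl⟩) hcen
  have hφψ : ∀ s : Spor.M11, φ (MulAut.conj s) = ψ s := fun s => Subtype.ext (hφc s)
  intro α
  refine rce_of_search hφ hs hc (P := P) ?_ (fun _ => True) (fun _ _ _ => trivial) (Q := Q) (cand := cand) ?_ ?_
    ?_ hO trivial
  · intro c h
    obtain ⟨h1, s, h2⟩ := hP c h
    exact ⟨h1, s, by rw [hφψ, h2]⟩
  · intro α _
    refine ⟨rfl, fun i hi => ?_⟩
    obtain ⟨s, hs⟩ := inner_of_out S2060.result α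
    rw [← hs, hφψ]
    exact im_cand s hi
  · intro α _
    exact inner_of_out S2060.result (α ^ 2)
  · intro s p hp hp2 hsp
    obtain ⟨o, ho, t, k, h⟩ := hcov s p hp hp2 hsp
    exact ⟨o, ho, t, k, by rw [hφψ, h]⟩

end R11

/-- **the row `M11`** -/
theorem rc_m11 {S : Type} [Group S] (hs : IsSimpleGroup S) (hc : ¬ IsMulCommutative S) (h : Spor.IsoM11 S) : RC S := by
  obtain ⟨e⟩ := h
  exact RC.congr e.symm (R11.rc (simple_cgr e hs) (nc_cgr e hc))

end Cfsg.Agent.H916.RG
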