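import Cfsg.Agent.H916.RG.R11
import Cfsg.Agent.H916.RG.D12out

/-!
# S3509: `M12`, checks (helper916)
-/

set_option autoImplicit false

namespace Cfsg.Agent.H916.RG.C12

open Cfsg Cfsg.Agent.H106.RC Cfsg.Agent.H334.Ore.Mat Cfsg.Agent.H916.RG.Eng
open Cfsg.Agent.SporadicStructure.M24El Cfsg.Agent.H729.Trans

theorem eo3A : tl D12.oo3A.p D12.oo3A.c D12.oo3A.c D12.oo3A.wd D12.oo3A.sts = D12.Zo3A := by decide +kernel

theorem fo3A : D12.Zo3A.all (chkP' P12 D12.To3A) = true := by decide +kernel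

theorem go3A : pre D12.oo3A.p D12.oo3A.c D12.oo3A.wd D12.oo3A.sts = true := by decide +kernel

end Cfsg.Agent.H916.RG.C12
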