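import Cfsg.Agent.H916.RG.R11
import Cfsg.Agent.H916.RG.D12out

/-!
# S3509: `M12`, checks (helper916)
-/

set_option autoImplicit false

namespace Cfsg.Agent.H916.RG.C12

open Cfsg Cfsg.Agent.H106.RC Cfsg.Agent.H334.Ore.Mat Cfsg.Agent.H916.RG.Eng
open Cfsg.Agent.SporadicStructure.M24El Cfsg.Agent.H729.Trans

theorem eo3B : tl D12.oo3B.p D12.oo3B.c D12.oo3B.c D12.oo3B.wd D12.oo3B.sts = D12.Zo3B := by decide +kernel

theorem fo3B : D12.Zo3B.all (chkP' P12 D12.To3B) = true := by decide +kernel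

theorem go3B : pre D12.oo3B.p D12.oo3B.c D12.oo3B.wd D12.oo3B.sts = true := by decide +kernel

theorem eo5 : tl D12.oo5.p D12.oo5.c D12.oo5.c D12.oo5.wd D12.oo5.sts = D12.Zo5 := by decide +kernel

theorem fo5 : D12.Zo5.all (chkP' P12 D12.To5) = true := by decide +kernel

theorem go5 : pre D12.oo5.p D12.oo5.c D12.oo5.wd D12.oo5.sts = true := by decide +kernel

theorem eo11 : tl D12.oo11.p D12.oo11.c D12.oo11.c D12.oo11.wd D12.oo11.sts = D12.Zo11 := by decide +kernel

theorem fo11 : D12.Zo11.all (chkP' P12 D12.To11) = true := by decide +kernel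

theorem go11 : pre D12.oo11.p D12.oo11.c D12.oo11.wd D12.oo11.sts = true := by decide +kernel

end Cfsg.Agent.H916.RG.C12
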