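import Cfsg.Agent.H916.RG.C12a
import Cfsg.Agent.H916.RG.C12b
import Cfsg.Agent.H916.RG.C12c
import Cfsg.Agent.H916.RG.C12d
import Cfsg.Agent.H419.Spor.M12

/-!
# S3509: `M12` (helper916)
-/

set_option autoImplicit false

namespace Cfsg.Agent.H916.RG

open Cfsg Cfsg.Agent.H106.RC Cfsg.Agent.H334.Ore.Mat Cfsg.Agent.H916.RG.Eng
open scoped Pointwise
open Cfsg.Agent.SporadicStructure.M24El Cfsg.Agent.H729.Trans
open Cfsg.Agent.SporadicA.GolayPerm Cfsg.Agent.SporadicA.GolayBase
open Cfsg.Agent.SporadicStructure.M11InvPerms (dd dd_mem)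
open Cfsg.Agent.MTwelveType.SylowModel (squareDodecad_eq mem_M12 card_M12)
open Cfsg.Agent.H419.Spor.M12 (bt mem_or I_mem)

namespace R12

theorem M12_le : Spor.M12 ≤ M24 := fun _ h => h.1

/-- the inclusion -/
def ψ : Spor.M12 →* M24 where
  toFun g := ⟨(g : Equiv.Perm GolayPt), g.2.1⟩
  map_one' := rfl
  map_mul' _ _ := rfl

theorem ψ_inj : Function.Injective ψ := by
  intro a b h
  exact Subtype.ext (congrArg (fun g : M24 => (g : Equiv.Perm GolayPt)) h)

theorem hP (c : ℕ) (h : P12 c = true) : ok c = true ∧ ∃ s : Spor.M12, ψ s = el c := by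
  obtain ⟨h1, h2⟩ := P12_mem h
  exact ⟨h1, ⟨(el c : Equiv.Perm GolayPt), h2⟩, rfl⟩

/-- candidates, inner -/
def cin (b : ℕ) : List ℕ := if b ∈ ddL then ddL else dcL

/-- candidates, outer -/
def cout (b : ℕ) : List ℕ := if b ∈ ddL then dcL else ddL

/-- no restriction -/
def Q (_ : ℕ) : Bool := true

theorem im_cin {g : M24} (h : ∀ p : GolayPt, (g : Equiv.Perm GolayPt) p ∈ dd ↔ p ∈ dd) {i : ℕ} (hi : i < 24) :
    im g i ∈ cin i := by
  have hidx : idx (pt i) = i := idx_pt hi
  unfold cin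
  by_cases hd : i ∈ ddL
  · rw [if_pos hd]
    exact mem_ddL _ ((h (pt i)).2 (dd_of_mem _ (by rw [hidx]; exact hd)))
  · rw [if_neg hd]
    have h1 : pt i ∉ dd := fun h => hd (by have := mem_ddL _ h; rwa [hidx] at this)
    exact mem_dcL _ fun h' => h1 ((h (pt i)).1 h')

theorem im_cout {g : M24} (h : ∀ p : GolayPt, (g : Equiv.Perm GolayPt) p ∈ dd ↔ p ∉ dd) {i : ℕ} (hi : i < 24) :
    im g i ∈ cout i := by
  have hidx : idx (pt i) = i := idx_pt hi
  unfold cout
  by_cases hd : i ∈ ddL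
  · rw [if_pos hd]
    exact mem_dcL _ fun h' => (h (pt i)).1 h' (dd_of_mem _ (by rw [hidx]; exact hd))
  · rw [if_neg hd]
    have h1 : pt i ∉ dd := fun h => hd (by have := mem_ddL _ h; rwa [hidx] at this)
    exact mem_ddL _ ((h (pt i)).2 h1)

theorem chkP_mono {T T' : List Crt} (hT : ∀ t ∈ T, t ∈ T') {z : ℕ} (h : chkP' P12 T z = true) :
    chkP' P12 T' z = true := by
  unfold chkP' at h ⊢
  rw [Bool.or_eq_true] at h ⊢
  rcases h with h | h
  · exact Or.inl h
  · obtain ⟨t, ht, h1⟩ := List.any_eq_true.1 h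
    exact Or.inr (List.any_eq_true.2 ⟨t, hT t ht, h1⟩)

theorem chkO_of {cand : ℕ → List ℕ} {T T' : List Crt} {o : Eng.Odd} {Z : List ℕ}
    (h1 : pre o.p o.c o.wd o.sts = true) (h2 : (o.sts.all fun st => decide (st.2.1 = cand st.1)) = true)
    (h3 : tl o.p o.c o.c o.wd o.sts = Z) (h4 : Z.all (chkP' P12 T) = true) (hT : ∀ t ∈ T, t ∈ T') :
    chkO P12 Q cand T' o = true := by
  unfold chkO
  rw [Bool.and_eq_true, Bool.and_eq_true, h3]
  refine ⟨h1, h2, List.all_eq_true.2 fun z hz => ?_⟩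
  rw [Bool.or_eq_true]
  exact Or.inr (chkP_mono hT (List.all_eq_true.1 h4 z hz))

theorem hOin : (D12.Oin.all (chkO P12 Q cin D12.Tin)) = true := by
  refine List.all_eq_true.2 fun o ho => ?_
  unfold D12.Oin at ho
  simp only [List.mem_cons, List.not_mem_nil, or_false] at ho
  rcases ho with rfl | rfl | rfl | rfl
  · exact chkO_of C12.gi3A (by decide +kernel) C12.ei3A C12.fi3A fun t ht => by
      unfold D12.Tin; simp only [List.mem_append]; tauto
  · exact chkO_of C12.gi3B (by decide +kernel) C12.ei3B C12.fi3B fun t ht => by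
      unfold D12.Tin; simp only [List.mem_append]; tauto
  · exact chkO_of C12.gi5 (by decide +kernel) C12.ei5 C12.fi5 fun t ht => by
      unfold D12.Tin; simp only [List.mem_append]; tauto
  · exact chkO_of C12.gi11 (by decide +kernel) C12.ei11 C12.fi11 fun t ht => by
      unfold D12.Tin; simp only [List.mem_append]; tauto

theorem hOout : (D12.Oout.all (chkO P12 Q cout D12.Tout)) = true := by
  refine List.all_eq_true.2 fun o ho => ?_
  unfold D12.Oout at ho
  simp only [List.mem_cons, List.not_mem_nil, or_false] at ho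
  rcases ho with rfl | rfl | rfl | rfl
  · exact chkO_of C12.go3A (by decide +kernel) C12.eo3A C12.fo3A fun t ht => by
      unfold D12.Tout; simp only [List.mem_append]; tauto
  · exact chkO_of C12.go3B (by decide +kernel) C12.eo3B C12.fo3B fun t ht => by
      unfold D12.Tout; simp only [List.mem_append]; tauto
  · exact chkO_of C12.go5 (by decide +kernel) C12.eo5 C12.fo5 fun t ht => by
      unfold D12.Tout; simp only [List.mem_append]; tauto
  · exact chkO_of C12.go11 (by decide +kernel) C12.eo11 C12.fo11 fun t ht => by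
      unfold D12.Tout; simp only [List.mem_append]; tauto

theorem s3 : sylOk P12 D12.L3 = true := by decide +kernel

theorem s5 : sylOk P12 D12.L5 = true := by decide +kernel

theorem s11 : sylOk P12 D12.L11 = true := by decide +kernel

theorem w3 : covOk P12 D12.Oin D12.L3 D12.W3 = true := by decide +kernel

theorem w5 : covOk P12 D12.Oin D12.L5 D12.W5 = true := by decide +kernel

theorem w11 : covOk P12 D12.Oin D12.L11 D12.W11 = true := by decide +kernel

theorem w3' : covOk P12 D12.Oout D12.L3 D12.W3 = true := by decide +kernel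

theorem w5' : covOk P12 D12.Oout D12.L5 D12.W5 = true := by decide +kernel

theorem w11' : covOk P12 D12.Oout D12.L11 D12.W11 = true := by decide +kernel

theorem hcov [Finite Spor.M12] {O : List Eng.Odd} (k3 : covOk P12 O D12.L3 D12.W3 = true)
    (k5 : covOk P12 O D12.L5 D12.W5 = true) (k11 : covOk P12 O D12.L11 D12.W11 = true) (s : Spor.M12) (p : ℕ)
    (hp : p.Prime) (hp2 : p ≠ 2) (hs : orderOf s = p) :
    ∃ o ∈ O, ∃ (t : Spor.M12) (k : ℕ), ψ (t * s ^ k * t⁻¹) = el o.c := by
  have h1 : p ∣ 2 ^ 6 * 3 ^ 3 * 5 * 11 := by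
    have h2 : p ∣ Nat.card Spor.M12 := hs ▸ orderOf_dvd_natCard s
    rwa [card_M12] at h2
  have h2 : p = 3 ∨ p = 5 ∨ p = 11 := by
    rcases (Nat.Prime.dvd_mul hp).1 h1 with h | h
    · rcases (Nat.Prime.dvd_mul hp).1 h with h | h
      · rcases (Nat.Prime.dvd_mul hp).1 h with h | h
        · exact absurd ((Nat.prime_dvd_prime_iff_eq hp Nat.prime_two).1 (hp.dvd_of_dvd_pow h)) hp2
        · exact Or.inl ((Nat.prime_dvd_prime_iff_eq hp Nat.prime_three).1 (hp.dvd_of_dvd_pow h))
      · exact Or.inr (Or.inl ((Nat.prime_dvd_prime_iff_eq hp (by norm_num)).1 h))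
    · exact Or.inr (Or.inr ((Nat.prime_dvd_prime_iff_eq hp (by norm_num)).1 h))
  rcases h2 with rfl | rfl | rfl
  · exact cov_of_sylow ψ_inj hP hp s3 (a := 3) (m := 3520) (by decide) (by rw [card_M12]; norm_num) (by norm_num) k3 s hs
  · exact cov_of_sylow ψ_inj hP hp s5 (a := 1) (m := 19008) (by decide) (by rw [card_M12]; norm_num) (by norm_num) k5 s
      hs
  · exact cov_of_sylow ψ_inj hP hp s11 (a := 1) (m := 8640) (by decide) (by rw [card_M12]; norm_num) (by norm_num) k11 s
      hs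

theorem hcen (τ : M24) (h : ∀ g : Spor.M12, (τ : Equiv.Perm GolayPt) * g = g * τ) : τ = 1 := by
  have hc : P12 D12.cen.c = true := by decide +kernel
  have hd : P12 D12.cd = true := by decide +kernel
  obtain ⟨hc1, s, hs⟩ := hP _ hc
  obtain ⟨hd1, t, ht⟩ := hP _ hd
  refine cen_of_search (p := 11) (c := D12.cen.c) (wd := D12.cen.wd) (sts := D12.cen.sts) (d := D12.cd)
    (by decide +kernel) hd1 (by decide +kernel) (by decide +kernel) τ ?_ ?_
  · rw [← hs]; exact Subtype.ext (h s)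
  · rw [← ht]; exact Subtype.ext (h t)

theorem projInv_dd : ∀ p : GolayPt, projInv p ∈ dd ↔ p ∉ dd := by decide +kernel

theorem projInv_inv : projInv⁻¹ = projInv := by
  apply Equiv.ext
  decide +kernel

theorem bt_sq : bt * bt = 1 := by
  apply MulEquiv.ext
  intro g
  apply Subtype.ext
  have h1 : ((bt (bt g) : Spor.M12) : Equiv.Perm GolayPt) =
      projInv * (projInv * g * projInv⁻¹) * projInv⁻¹ := rfl
  have h2 : projInv * projInv = 1 := by
    have h3 := mul_inv_cancel projInv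
    rwa [projInv_inv] at h3
  rw [MulAut.mul_apply, MulAut.one_apply, h1, projInv_inv]
  calc projInv * (projInv * g * projInv) * projInv = (projInv * projInv) * g * (projInv * projInv) := by
        simp only [mul_assoc]
    _ = g := by rw [h2, one_mul, mul_one]

theorem bt_conj (t : Spor.M12) : bt * MulAut.conj t = MulAut.conj (bt t) * bt := by
  apply MulEquiv.ext
  intro g
  simp only [MulAut.mul_apply, MulAut.conj_apply, map_mul, map_inv]

theorem rc (hs : IsSimpleGroup Spor.M12) (hc : ¬ IsMulCommutative Spor.M12) : RC Spor.M12 := by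
  have hfin : Finite Spor.M12 := Nat.finite_of_card_ne_zero (by rw [card_M12]; norm_num)
  obtain ⟨φ, hφ, hφc, hφa⟩ := exists_emb Spor.M12 M12_le (fun α => by
    rcases mem_or α with ⟨m, rfl⟩ | ⟨m, rfl⟩
    · exact ⟨⟨m, M12_le m.2⟩, fun g => rfl⟩
    · refine ⟨⟨m, M12_le m.2⟩ * ⟨projInv, I_mem⟩, fun g => ?_⟩
      show (m : Equiv.Perm GolayPt) * (projInv * g * projInv⁻¹) * (m : Equiv.Perm GolayPt)⁻¹ =
        (m * projInv) * g * ((m : Equiv.Perm GolayPt) * projInv)⁻¹
      rw [mul_inv_rev]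
      simp only [mul_assoc]) hcen
  have hφψ : ∀ s : Spor.M12, φ (MulAut.conj s) = ψ s := fun s => Subtype.ext (hφc s)
  have hbt : φ bt = ⟨projInv, I_mem⟩ := by
    have h1 : (⟨projInv, I_mem⟩ : M24)⁻¹ * φ bt = 1 := by
      apply hcen
      intro g
      have h2 : (φ bt : Equiv.Perm GolayPt) * g * (φ bt : Equiv.Perm GolayPt)⁻¹ = projInv * g * projInv⁻¹ := by
        rw [← hφa]
        rfl
      have h3 : (φ bt : Equiv.Perm GolayPt) * g = projInv * g * projInv⁻¹ * φ bt := by
        rw [← h2, inv_mul_cancel_right]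
      show projInv⁻¹ * (φ bt : Equiv.Perm GolayPt) * g = g * (projInv⁻¹ * (φ bt : Equiv.Perm GolayPt))
      rw [mul_assoc, h3]
      group
    exact (inv_mul_eq_one.1 h1).symm
  have hP' : ∀ c : ℕ, P12 c = true → ok c = true ∧ ∃ s : Spor.M12, φ (MulAut.conj s) = el c := by
    intro c h
    obtain ⟨h1, s, h2⟩ := hP c h
    exact ⟨h1, s, by rw [hφψ, h2]⟩
  intro α
  rcases mem_or α with hα | hα
  · refine rce_of_search hφ hs hc (P := P12) hP' (fun α => ∃ m, α = MulAut.conj m) ?_ (Q := Q) (cand := cin) ?_ ?_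
      ?_ hOin hα
    · rintro _ t ⟨m, rfl⟩
      exact ⟨t * m * t⁻¹, by rw [map_mul, map_mul, map_inv]⟩
    · rintro _ ⟨m, rfl⟩
      refine ⟨rfl, fun i hi => im_cin (fun p => ?_) hi⟩
      rw [hφψ]
      exact m12_dd m.2 p
    · rintro _ ⟨m, rfl⟩
      exact ⟨m ^ 2, by rw [map_pow]⟩
    · intro s p hp hp2 hsp
      obtain ⟨o, ho, t, k, h⟩ := hcov w3 w5 w11 s p hp hp2 hsp
      exact ⟨o, ho, t, k, by rw [hφψ, h]⟩
  · refine rce_of_search hφ hs hc (P := P12) hP' (fun α => ∃ m, α = MulAut.conj m * bt) ?_ (Q := Q) (cand := cout)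
      ?_ ?_ ?_ hOout hα
    · rintro _ t ⟨m, rfl⟩
      refine ⟨t * m * bt t⁻¹, ?_⟩
      rw [map_mul, map_mul, ← map_inv]
      calc MulAut.conj t * (MulAut.conj m * bt) * MulAut.conj t⁻¹
          = MulAut.conj t * MulAut.conj m * (bt * MulAut.conj t⁻¹) := by simp only [mul_assoc]
        _ = MulAut.conj t * MulAut.conj m * (MulAut.conj (bt t⁻¹) * bt) := by rw [bt_conj]
        _ = MulAut.conj t * MulAut.conj m * MulAut.conj (bt t⁻¹) * bt := by simp only [mul_assoc]
    · rintro _ ⟨m, rfl⟩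
      refine ⟨rfl, fun i hi => im_cout (fun p => ?_) hi⟩
      rw [map_mul, hφψ, hbt]
      show (m : Equiv.Perm GolayPt) (projInv p) ∈ dd ↔ p ∉ dd
      rw [m12_dd m.2, projInv_dd]
    · rintro _ ⟨m, rfl⟩
      refine ⟨m * bt m, ?_⟩
      rw [pow_two, map_mul]
      calc MulAut.conj m * MulAut.conj (bt m) = MulAut.conj m * MulAut.conj (bt m) * (bt * bt) := by
            rw [bt_sq, mul_one]
        _ = MulAut.conj m * (MulAut.conj (bt m) * bt) * bt := by simp only [mul_assoc]
        _ = MulAut.conj m * (bt * MulAut.conj m) * bt := by rw [bt_conj]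
        _ = _ := by simp only [mul_assoc]
    · intro s p hp hp2 hsp
      obtain ⟨o, ho, t, k, h⟩ := hcov w3' w5' w11' s p hp hp2 hsp
      exact ⟨o, ho, t, k, by rw [hφψ, h]⟩

end R12

/-- **the row `M12`** -/
theorem rc_m12 {S : Type} [Group S] (hs : IsSimpleGroup S) (hc : ¬ IsMulCommutative S) (h : Spor.IsoM12 S) : RC S := by
  obtain ⟨e⟩ := h
  exact RC.congr e.symm (R12.rc (simple_cgr e hs) (nc_cgr e hc))

end Cfsg.Agent.H916.RG
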