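import Cfsg.Agent.H916.RG.Use
import Cfsg.Agent.H334.Ore.M23
import Cfsg.Agent.S2063

/-!
# S3509: `M23` (helper916)
-/

set_option autoImplicit false

namespace Cfsg.Agent.H916.RG.R23

open Cfsg Cfsg.Agent.H106.RC Cfsg.Agent.H334.Ore Cfsg.Agent.H334.Ore.Mat Cfsg.Agent.H916.RG.Eng

/-- the class of the record `r4` -/
def t4 : Crt where
  c := 974960402297316522504383265668385292
  m := 6
  p := 2
  q := 3
  st := [⟨true, 959693016710533276699543671463680609, 961317809757655154764020151989510155, 961980254992297859428797214888085507, 4⟩]

/-- the class of the record `r10` -/
def t10 : Crt where
  c := 976382975643422735591640723023248646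
  m := 14
  p := 2
  q := 7
  st := [⟨true, 980629883571778949638038858019915009, 975428876041093875496459293711142915, 962346203540214891117935029206059432, 3⟩]

/-- the class of the record `r11` -/
def t11 : Crt where
  c := 979374823669607264849363846196199668
  m := 14
  p := 2
  q := 7
  st := [⟨true, 960940459519921391934688648140723696, 972884294601927381072313408047719540, 977817549846798619589878778031099568, 4⟩]

/-- the class of the record `r12` -/
def t12 : Crt where
  c := 979155369683378504585279639241629221
  m := 15
  p := 3
  q := 5
  st := [⟨true, 961399254497195128962143353532025517, 965835040340589999461681672153827887, 966600703777307883517192704588155561, 1⟩,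
    ⟨true, 979463412488105056610047621658778948, 959992540664457725574318969590298955, 966482828380989886133818843859716140, 1⟩,
    ⟨false, 961039576037286753882557168803663884, 961064959370338599263268340484314401, 973135676867168992218241272710044720, 4⟩]

/-- the class of the record `r13` -/
def t13 : Crt where
  c := 972833497517399943230256495216677110
  m := 15
  p := 3
  q := 5
  st := [⟨true, 972891810310360709750752069976955104, 977921775743752568200400512460370496, 974987296708211694448709933246879781, 1⟩,
    ⟨true, 961105690907817790933691695784895535, 980706659307738394367514237150089258, 980454396710343851416830293330368560, 1⟩,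
    ⟨false, 980498631957997905975396556653745862, 956776646768527476687410482883373667, 961047358145984254614781418630285552, 2⟩]

/-- the certificates -/
def T : List Crt := [t4, t10, t11, t12, t13]

theorem hD : (M23Data.D.all fun r => chk M23Data.F T r.c) = true := by decide +kernel

/-- **the row `M23`** -/
theorem rc_m23 {S : Type} [Group S] (hs : IsSimpleGroup S) (hc : ¬ IsMulCommutative S) (h : Spor.IsoM23 S) : RC S := by
  obtain ⟨e⟩ := h
  refine RC.congr e.symm (rc_of_inner S2063.result fun g => ?_)
  exact rce_of_data M23.inc23_injective (simple_cgr e hs) (nc_cgr e hc) M23.hmem M23Data.D T hD M23.cov g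

end Cfsg.Agent.H916.RG.R23
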