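import Cfsg.Agent.H916.RG.Use
import Cfsg.Agent.H334.Ore.M24
import Cfsg.Agent.S2064

/-!
# S3509: `M24` (helper916)
-/

set_option autoImplicit false

namespace Cfsg.Agent.H916.RG.R24

open Cfsg Cfsg.Agent.H106.RC Cfsg.Agent.H334.Ore Cfsg.Agent.H334.Ore.Mat Cfsg.Agent.H916.RG.Eng

/-- the class of the record `r8` -/
def t8 : Crt where
  c := 271787644222412330678682982691407336
  m := 6
  p := 2
  q := 3
  st := [⟨true, 230053402636052308529885651869488546, 603701379483483752554575081642229895, 977783897888701185615928890260508300, 2⟩]

/-- the class of the record `r9` -/
def t9 : Crt where
  c := 441366995423741609312549231512542638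
  m := 6
  p := 2
  q := 3
  st := [⟨true, 895730894454731203669768039177828752, 647385901344850096793681996257021607, 180642771462069011516941214225315564, 5⟩]

/-- the class of the record `r13` -/
def t13 : Crt where
  c := 59958983596740834366188217924985573
  m := 10
  p := 2
  q := 5
  st := [⟨true, 190176417210250112690122373581810959, 813170514285819159059739122561687050, 976329858976144688253668533073269792, 5⟩]

/-- the class of the record `r15` -/
def t15 : Crt where
  c := 145797950094761687161608633680418285
  m := 12
  p := 2
  q := 3
  st := [⟨true, 103490428399879872511447326196567565, 896330871181009407153136531356605774, 970567312120847004310216658166859916, 6⟩]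

/-- the class of the record `r16` -/
def t16 : Crt where
  c := 54061143792467787905420018783885681
  m := 12
  p := 2
  q := 3
  st := [⟨true, 524486257964349784857242393716169990, 149712690863446650501751824008231590, 16963844484154683333598515288161836, 5⟩]

/-- the class of the record `r17` -/
def t17 : Crt where
  c := 296418681862333505317491920136189480
  m := 14
  p := 2
  q := 7
  st := [⟨true, 668876059628145745285378347956919310, 98013657990854407419955819836035617, 549962080228381895313333570228474321, 2⟩]

/-- the class of the record `r18` -/
def t18 : Crt where
  c := 692782671643430358498584137066202775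
  m := 14
  p := 2
  q := 7
  st := [⟨true, 545545344354558754321281065994529998, 852167435492133542222061628291134670, 569414163480825998810179747018023412, 4⟩]

/-- the class of the record `r19` -/
def t19 : Crt where
  c := 311800539162905419356353909696843884
  m := 15
  p := 3
  q := 5
  st := [⟨true, 812987772394217857086029751372581196, 358819582622273534847627140398155911, 955975293400109458169910936258200195, 5⟩]

/-- the class of the record `r20` -/
def t20 : Crt where
  c := 682877364871969722836355392054863185
  m := 15
  p := 3
  q := 5
  st := [⟨true, 435711300094471009183540432176646656, 225428337158648897212538337905740160, 977841831587410394808745107017290340, 5⟩]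

/-- the class of the record `r21` -/
def t21 : Crt where
  c := 152660159869748298187992742290470223
  m := 21
  p := 3
  q := 7
  st := [⟨true, 170344715970944075890907204543761940, 720836925750497429239019665094288655, 379998689956512849470317422979592237, 2⟩,
    ⟨false, 913905811702993639579692217978412706, 112993723820556428318856042273899190, 310899286586797708186032541662203340, 5⟩]

/-- the class of the record `r22` -/
def t22 : Crt where
  c := 801752737117678585333135729932738209
  m := 21
  p := 3
  q := 7
  st := [⟨true, 312334491873274482040967277691645668, 55194356658927390706768696483885645, 66608272759755819153472131290347051, 2⟩,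
    ⟨false, 610379235789809277123922608552395147, 153711913950651138790393872455451860, 458508643277638290698553631888857167, 3⟩]

/-- the certificates -/
def T : List Crt := [t8, t9, t13, t15, t16, t17, t18, t19, t20, t21, t22]

theorem hD : (M24Data.D.all fun r => chk M24Data.F T r.c) = true := by decide +kernel

/-- **the row `M24`** -/
theorem rc_m24 {S : Type} [Group S] (hs : IsSimpleGroup S) (hc : ¬ IsMulCommutative S) (h : Spor.IsoM24 S) : RC S := by
  obtain ⟨e⟩ := h
  refine RC.congr e.symm (rc_of_inner S2064.result fun g => ?_)
  exact rce_of_data M24R.id_injective (simple_cgr e hs) (nc_cgr e hc) M24R.hmem M24Data.D T hD M24R.cov g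

end Cfsg.Agent.H916.RG.R24
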