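import Cfsg.Agent.H106.RC.Defs

/-!
# S3509, small sporadic groups: pair covers and their certificates (helper916)

* `PC N H a b` : every `N`-conjugate of the pair `(a, b)` has a member in `H`;
* `Dead N a b` : no subgroup `H` not containing `N` has `PC N H a b`;
* `dead1`, `dead2` : certificates;
* `rce_of_dead` : two primes; `rce_of_inner` : inner automorphisms; `rce_of_emb` : automorphisms in a model.
-/

set_option autoImplicit false
set_option linter.unusedSectionVars false

namespace Cfsg.Agent.H916.RG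

open Subgroup Cfsg.Agent.H106.RC

section

variable {A : Type*} [Group A]

/-- every `N`-conjugate of the pair `(a, b)` has a member in `H` -/
def PC (N H : Subgroup A) (a b : A) : Prop := ∀ s ∈ N, s * a * s⁻¹ ∈ H ∨ s * b * s⁻¹ ∈ H

variable {N H : Subgroup A} {a b c : A}

theorem PC.symm (h : PC N H a b) : PC N H b a := fun s hs => (h s hs).symm

theorem PC.inv_right (h : PC N H a b) : PC N H a b⁻¹ := by
  intro s hs
  rcases h s hs with h1 | h1
  · exact Or.inl h1
  · right
    have h2 := H.inv_mem h1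
    have e : (s * b * s⁻¹)⁻¹ = s * b⁻¹ * s⁻¹ := by group
    rwa [e] at h2

theorem PC.mul_right (h : PC N H a b) (h' : PC N H a c) : PC N H a (b * c) := by
  intro s hs
  rcases h s hs with h1 | h1
  · exact Or.inl h1
  rcases h' s hs with h2 | h2
  · exact Or.inl h2
  · right
    have e : s * (b * c) * s⁻¹ = (s * b * s⁻¹) * (s * c * s⁻¹) := by group
    rw [e]
    exact H.mul_mem h1 h2

theorem PC.pow_right (h : PC N H a b) (k : ℕ) : PC N H a (b ^ k) := by
  intro s hs
  rcases h s hs with h1 | h1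
  · exact Or.inl h1
  · right
    rw [← conj_pow]
    exact H.pow_mem h1 k

/-- conjugation of the second member by an element of `N` commuting with the first one -/
theorem PC.conj_right (h : PC N H a b) {n : A} (hn : n ∈ N) (hc : n * a = a * n) :
    PC N H a (n * b * n⁻¹) := by
  intro s hs
  rcases h (s * n) (N.mul_mem hs hn) with h1 | h1
  · left
    have e : s * n * a * (s * n)⁻¹ = s * a * s⁻¹ := by
      calc s * n * a * (s * n)⁻¹ = s * (n * a) * n⁻¹ * s⁻¹ := by group
        _ = s * a * s⁻¹ := by rw [hc]; group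
    rwa [e] at h1
  · right
    have e : s * n * b * (s * n)⁻¹ = s * (n * b * n⁻¹) * s⁻¹ := by group
    rwa [e] at h1

theorem PC.comm_right (h : PC N H a b) {n : A} (hn : n ∈ N) (hc : n * a = a * n) (k : ℕ) :
    PC N H a ((b⁻¹ * (n * b * n⁻¹)) ^ k) :=
  (h.inv_right.mul_right (h.conj_right hn hc)).pow_right k

/-- no subgroup `H` not containing `N` has `PC N H a b` -/
def Dead (N : Subgroup A) (a b : A) : Prop := ∀ H : Subgroup A, ¬ N ≤ H → ¬ PC N H a b

theorem Dead.symm (h : Dead N a b) : Dead N b a := fun H hH hP => h H hH hP.symm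

/-- `N` is a simple normal subgroup with trivial centraliser -/
structure Nice (N : Subgroup A) : Prop where
  nor : N.Normal
  simp : IsSimpleGroup N
  cen : ∀ x : A, (∀ s ∈ N, s * x = x * s) → x = 1

/-- a single element is no cover -/
theorem Nice.absurd (hN : Nice N) (hH : ¬ N ≤ H) (ha : a ≠ 1) (h : PC N H a a) : False := by
  have hsa : ∀ s ∈ N, s * a * s⁻¹ ∈ H := fun s hs => (h s hs).elim id id
  obtain ⟨s, hs, hne⟩ : ∃ s ∈ N, s * a ≠ a * s := by
    by_contra hcon
    push Not at hcon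
    exact ha (hN.cen a hcon)
  let L : Subgroup A := Subgroup.closure {x | ∃ s ∈ N, x = s * a * s⁻¹}
  have hL : L ≤ H := by
    rw [Subgroup.closure_le]
    rintro _ ⟨s, hs, rfl⟩
    exact hsa s hs
  have hLN : ∀ n ∈ N, ∀ x ∈ L, n * x * n⁻¹ ∈ L := by
    intro n hn x hx
    have h1 : L ≤ L.comap (MulAut.conj n).toMonoidHom := by
      rw [Subgroup.closure_le]
      rintro _ ⟨s, hs, rfl⟩
      change n * (s * a * s⁻¹) * n⁻¹ ∈ L
      refine Subgroup.subset_closure ⟨n * s, N.mul_mem hn hs, by group⟩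
    exact h1 hx
  have hsimp := hN.simp
  have hnor : (L.subgroupOf N).Normal := by
    constructor
    intro x hx n
    rw [mem_subgroupOf] at hx ⊢
    exact hLN n n.2 x hx
  rcases hnor.eq_bot_or_eq_top with h1 | h1
  · have h2 : s * a * s⁻¹ * a⁻¹ ∈ L := by
      refine L.mul_mem (Subgroup.subset_closure ⟨s, hs, rfl⟩) (L.inv_mem ?_)
      exact Subgroup.subset_closure ⟨1, N.one_mem, by group⟩
    have h3 : s * a * s⁻¹ * a⁻¹ ∈ N := by
      have h4 : a * s⁻¹ * a⁻¹ ∈ N := hN.nor.conj_mem _ (N.inv_mem hs) a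
      have e : s * a * s⁻¹ * a⁻¹ = s * (a * s⁻¹ * a⁻¹) := by group
      rw [e]
      exact N.mul_mem hs h4
    have h4 : (⟨s * a * s⁻¹ * a⁻¹, h3⟩ : N) ∈ L.subgroupOf N := mem_subgroupOf.2 h2
    rw [h1, mem_bot] at h4
    have h5 : s * a * s⁻¹ * a⁻¹ = 1 := congrArg Subtype.val h4
    apply hne
    rw [mul_inv_eq_one, mul_inv_eq_iff_eq_mul] at h5
    exact h5
  · apply hH
    intro x hx
    have h2 : (⟨x, hx⟩ : N) ∈ L.subgroupOf N := by rw [h1]; trivial
    exact hL (mem_subgroupOf.1 h2)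

/-- **Certificate 1.** -/
theorem dead1 (hN : Nice N) (ha : a ≠ 1) {n : A} (hn : n ∈ N) (hc : n * a = a * n) (k : ℕ)
    (h : (b⁻¹ * (n * b * n⁻¹)) ^ k = a) : Dead N a b := by
  intro H hH hP
  have h1 := hP.comm_right hn hc k
  rw [h] at h1
  exact hN.absurd hH ha h1

/-- **Certificate 2.** -/
theorem dead2 (hN : Nice N) {n m y : A} (hn : n ∈ N) (hc : n * a = a * n) (k : ℕ)
    (h : (b⁻¹ * (n * b * n⁻¹)) ^ k = y) (hy : y ≠ 1) (hm : m ∈ N) (hmy : m * y = y * m) (j : ℕ)
    (h' : (a⁻¹ * (m * a * m⁻¹)) ^ j = y) : Dead N a b := by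
  intro H hH hP
  have h1 := hP.comm_right hn hc k
  rw [h] at h1
  have h2 := h1.symm.comm_right hm hmy j
  rw [h'] at h2
  exact hN.absurd hH hy h2

/-- **Reduction step**: replace the second member. -/
theorem Dead.step {n y : A} (hn : n ∈ N) (hc : n * a = a * n) (k : ℕ)
    (h : (b⁻¹ * (n * b * n⁻¹)) ^ k = y) (hD : Dead N a y) : Dead N a b := by
  intro H hH hP
  have h1 := hP.comm_right hn hc k
  rw [h] at h1
  exact hD H hH h1

/-- conjugation -/
theorem Dead.conj {g : A} (hg : g ∈ N) (h : Dead N a b) : Dead N (g * a * g⁻¹) (g * b * g⁻¹) := by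
  intro H hH hP
  refine h H hH fun s hs => ?_
  rcases hP (s * g⁻¹) (N.mul_mem hs (N.inv_mem hg)) with h1 | h1
  · left
    have e : s * g⁻¹ * (g * a * g⁻¹) * (s * g⁻¹)⁻¹ = s * a * s⁻¹ := by group
    rwa [e] at h1
  · right
    have e : s * g⁻¹ * (g * b * g⁻¹) * (s * g⁻¹)⁻¹ = s * b * s⁻¹ := by group
    rwa [e] at h1

/-- transport along an injective homomorphism -/
theorem Dead.of_map {B : Type*} [Group B] (f : A →* B) (hf : Function.Injective f)
    (h : Dead (N.map f) (f a) (f b)) : Dead N a b := by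
  intro H hH hP
  refine h (H.map f) ?_ ?_
  · intro hle
    apply hH
    rwa [Subgroup.map_le_map_iff_of_injective hf] at hle
  · rintro _ ⟨s, hs, rfl⟩
    rcases hP s hs with h1 | h1
    · left
      rw [← map_inv, ← map_mul, ← map_mul]
      exact Subgroup.mem_map_of_mem f h1
    · right
      rw [← map_inv, ← map_mul, ← map_mul]
      exact Subgroup.mem_map_of_mem f h1

end

section RCe

variable {S : Type*} [Group S]

/-- two primes -/
theorem rce_of_dead {g : MulAut S} {m p q : ℕ} (hm : orderOf g = m) (hm0 : m ≠ 0) (hp : p ∣ m) (hq : q ∣ m)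
    (hpr : ∀ r : ℕ, r.Prime → r ∣ m → r = p ∨ r = q)
    (hD : Dead (MulAut.conj : S →* MulAut S).range (g ^ (m / p)) (g ^ (m / q))) : RCe S g := by
  intro H hH
  by_contra hcon
  push Not at hcon
  refine hD H hH ?_
  rintro _ ⟨s, rfl⟩
  obtain ⟨z, hz, hzH, hz1⟩ := hcon s
  -- a power of prime order
  obtain ⟨l, rfl⟩ := Subgroup.mem_zpowers_iff.1 hz
  obtain ⟨k, hk⟩ : ∃ k : ℕ, g ^ k = g ^ l := by
    have hg : IsOfFinOrder g := orderOf_pos_iff.1 (by rw [hm]; omega)
    obtain ⟨k, hk⟩ := (hg.mem_powers_iff_mem_zpowers (y := g ^ l)).2 ⟨l, rfl⟩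
    exact ⟨k, hk⟩
  have hd : Nat.gcd k m ∣ m := Nat.gcd_dvd_right k m
  have hdm : m / Nat.gcd k m ≠ 1 := by
    intro h1
    have h2 : Nat.gcd k m = m := by
      have h3 := Nat.div_mul_cancel hd
      rw [h1, one_mul] at h3
      exact h3
    have h3 : m ∣ k := h2 ▸ Nat.gcd_dvd_left k m
    apply hz1
    rw [← hk]
    exact orderOf_dvd_iff_pow_eq_one.1 (hm ▸ h3)
  obtain ⟨r, hr, hrz⟩ := Nat.exists_prime_and_dvd hdm
  have hrm : r ∣ m := hrz.trans (Nat.div_dvd_of_dvd hd)
  have key : g ^ (m / r) ∈ zpowers (g ^ l) := by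
    have h1 : g ^ Nat.gcd k m ∈ zpowers (g ^ l) := by
      refine ⟨Nat.gcdA k m, ?_⟩
      have h2 : (g ^ l) ^ Nat.gcdA k m = g ^ ((Nat.gcd k m : ℕ) : ℤ) := by
        rw [← hk, Nat.gcd_eq_gcd_ab, zpow_add, zpow_mul, zpow_mul, zpow_natCast, zpow_natCast, ← hm,
          pow_orderOf_eq_one, one_zpow, mul_one]
      rw [zpow_natCast] at h2
      exact h2
    obtain ⟨e, he⟩ := hrz
    have hd0 : 0 < Nat.gcd k m := Nat.pos_of_ne_zero fun h => hm0 (Nat.eq_zero_of_zero_dvd (h ▸ hd))
    have h2 : m = Nat.gcd k m * (r * e) := by rw [← he, Nat.mul_div_cancel' hd]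
    have h3 : m / r = Nat.gcd k m * e := by
      apply Nat.div_eq_of_eq_mul_left hr.pos
      calc m = Nat.gcd k m * (r * e) := h2
        _ = Nat.gcd k m * e * r := by ring
    rw [h3, pow_mul]
    exact Subgroup.pow_mem _ h1 e
  obtain ⟨i, hi⟩ := key
  have h6 : MulAut.conj s * g ^ (m / r) * (MulAut.conj s)⁻¹ ∈ H := by
    have h7 : (g ^ l) ^ i = g ^ (m / r) := hi
    rw [← h7, ← conj_zpow]
    exact H.zpow_mem hzH i
  rcases hpr r hr hrm with rfl | rfl
  · exact Or.inl h6
  · exact Or.inr h6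

/-- inner automorphisms -/
theorem Dead.inner {a b : S} (h : Dead (⊤ : Subgroup S) a b) :
    Dead (MulAut.conj : S →* MulAut S).range (MulAut.conj a) (MulAut.conj b) := by
  intro H hH hP
  refine h (H.comap MulAut.conj) ?_ ?_
  · intro hle
    apply hH
    rintro _ ⟨s, rfl⟩
    exact hle (Subgroup.mem_top s)
  · intro s _
    rcases hP (MulAut.conj s) ⟨s, rfl⟩ with h1 | h1
    · left
      rw [mem_comap, map_mul, map_mul, map_inv]
      exact h1
    · right
      rw [mem_comap, map_mul, map_mul, map_inv]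
      exact h1

theorem conj_injective (hS : IsSimpleGroup S) (hSn : ¬ IsMulCommutative S) :
    Function.Injective (MulAut.conj : S →* MulAut S) := by
  rw [injective_iff_map_eq_one]
  intro s hs
  have h1 : s ∈ center S := by
    rw [mem_center_iff]
    intro y
    have h2 := DFunLike.congr_fun hs y
    change s * y * s⁻¹ = y at h2
    rw [mul_inv_eq_iff_eq_mul] at h2
    exact h2.symm
  rcases (inferInstance : (center S).Normal).eq_bot_or_eq_top with h2 | h2
  · rw [h2, mem_bot] at h1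
    exact h1
  · exfalso
    apply hSn
    refine ⟨⟨fun x y => ?_⟩⟩
    have h3 : y ∈ center S := by rw [h2]; trivial
    exact mem_center_iff.1 h3 x

theorem nice_top (hS : IsSimpleGroup S) (hSn : ¬ IsMulCommutative S) : Nice (⊤ : Subgroup S) := by
  refine ⟨inferInstance, (Subgroup.topEquiv (G := S)).isSimpleGroup, ?_⟩
  intro x hx
  apply conj_injective hS hSn
  rw [map_one]
  ext y
  change x * y * x⁻¹ = y
  rw [mul_inv_eq_iff_eq_mul]
  exact (hx y (Subgroup.mem_top y)).symm

/-- inner automorphisms, two primes -/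
theorem rce_of_inner (hS : IsSimpleGroup S) (hSn : ¬ IsMulCommutative S) {x : S} {m p q : ℕ}
    (hm : orderOf x = m) (hm0 : m ≠ 0) (hp : p ∣ m) (hq : q ∣ m)
    (hpr : ∀ r : ℕ, r.Prime → r ∣ m → r = p ∨ r = q)
    (hD : Dead (⊤ : Subgroup S) (x ^ (m / p)) (x ^ (m / q))) : RCe S (MulAut.conj x) := by
  refine rce_of_dead (m := m) (p := p) (q := q) ?_ hm0 hp hq hpr ?_
  · rw [orderOf_injective _ (conj_injective hS hSn), hm]
  · rw [← map_pow, ← map_pow]
    exact hD.inner

/-- conjugation by inner automorphisms -/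
theorem rce_conj {g : MulAut S} {s : S} (h : RCe S g) :
    RCe S (MulAut.conj s * g * (MulAut.conj s)⁻¹) := by
  intro H hH
  obtain ⟨t, ht⟩ := h H hH
  refine ⟨t * s⁻¹, ?_⟩
  intro z hz hzH
  obtain ⟨k, rfl⟩ := Subgroup.mem_zpowers_iff.1 hz
  have h1 := ht (g ^ k) (Subgroup.zpow_mem_zpowers g k) (by
    rw [conj_zpow] at hzH
    have e : MulAut.conj (t * s⁻¹) * (MulAut.conj s * g ^ k * (MulAut.conj s)⁻¹) * (MulAut.conj (t * s⁻¹))⁻¹ =
        MulAut.conj t * g ^ k * (MulAut.conj t)⁻¹ := by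
      rw [map_mul, map_inv]; group
    rwa [e] at hzH)
  rw [conj_zpow, h1, mul_one, mul_inv_cancel]

end RCe

end Cfsg.Agent.H916.RG
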